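import Groth.Agent.Lib.PicLim26.Lft
import Groth.Agent.Lib.RelPicBC26.Basic
import Groth.Agent.Lib.PicSep26.Separated
import Groth.Agent.Lib.PicTan26.Setup
import Groth.Agent.Lib.NumTau26.Family
import Groth.Agent.Lib.ProEtS.GeomPoint
import Groth.Agent.Lib.PicDesc.DimOne
import Groth.Agent.Lib.Ample.RelAmple

/-!
# Bounded families of invertible modules and quasi-compact opens of the Picard scheme
-/

universe u

open CategoryTheory CategoryTheory.Limits AlgebraicGeometry

set_option backward.isDefEq.respectTransparency false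
set_option linter.style.haveILetI false
set_option linter.unusedSectionVars false
set_option synthInstance.maxHeartbeats 200000
set_option maxHeartbeats 1000000

noncomputable section

namespace GrothLib.PicLim26

/-- Invertible modules on the pieces of a finite open disjoint decomposition glue. -/
theorem exists_invertible_glue_fintype {Y : Scheme.{u}} {ι : Type} [Finite ι] {Z : ι → Scheme.{u}} (j : ∀ i, Z i ⟶ Y)
    [∀ i, IsOpenImmersion (j i)] (hd : ∀ i l, i ≠ l → Disjoint (Set.range (j i)) (Set.range (j l)))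
    (hc : ∀ y, ∃ i, y ∈ Set.range (j i)) (L : ∀ i, (Z i).Modules) (hL : ∀ i, PicF.IsInvertible (L i)) :
    ∃ M : Y.Modules, PicF.IsInvertible M ∧ ∀ i, Nonempty ((Scheme.Modules.pullback (j i)).obj M ≅ L i) := by
  classical
  haveI := Fintype.ofFinite ι
  let P : ι → Y.Modules := fun i => (Scheme.Modules.pushforward (j i)).obj (L i)
  have hz : ∀ i l, l ≠ i → IsZero ((Scheme.Modules.restrictFunctor (j i)).obj (P l)) := fun i l hil => by
    rw [IsZero.iff_id_eq_zero]
    refine Scheme.Modules.hom_ext _ _ fun W => ?_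
    have hW : (j l) ⁻¹ᵁ ((j i) ''ᵁ W) ≤ ⊥ := fun z ⟨w, _, hw⟩ =>
      (Set.disjoint_iff.mp (hd i l (Ne.symm hil)) ⟨⟨w, hw⟩, ⟨z, rfl⟩⟩).elim
    haveI := GrothLib.PicDesc.subsingleton_sections_of_le_bot (L l) hW
    ext x
    exact Subsingleton.elim (α := Γ(L l, (j l) ⁻¹ᵁ ((j i) ''ᵁ W))) _ _
  haveI hadd : ∀ i, (Scheme.Modules.restrictFunctor (j i)).Additive := fun i =>
    (Scheme.Modules.restrictAdjunction (j i)).left_adjoint_additive
  have e : ∀ i, Nonempty ((Scheme.Modules.pullback (j i)).obj (⨁ P) ≅ L i) := by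
    intro i
    let R := Scheme.Modules.restrictFunctor (j i)
    haveI : IsIso (R.map (biproduct.π P i)) := by
      refine ⟨R.map (biproduct.ι P i), ?_, by rw [← R.map_comp, biproduct.ι_π_self, R.map_id]⟩
      rw [← R.map_comp]
      have h := congrArg R.map (biproduct.total (f := P))
      rw [R.map_sum, R.map_id] at h
      rw [← h, Finset.sum_eq_single i]
      · intro l _ hl
        rw [R.map_comp, (hz i l hl).eq_of_tgt (R.map (biproduct.π P l)) 0, zero_comp]
      · exact fun h => absurd (Finset.mem_univ _) h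
    exact ⟨((Scheme.Modules.restrictFunctorIsoPullback (j i)).app _).symm ≪≫ asIso (R.map (biproduct.π P i)) ≪≫
      asIso ((Scheme.Modules.restrictAdjunction (j i)).counit.app (L i))⟩
  refine ⟨⨁ P, GrothLib.Ample.isInvertible_of_restrict (fun i => (j i).opensRange) (eq_top_iff.2 fun y _ => ?_)
    fun i => ?_, e⟩
  · obtain ⟨i, hi⟩ := hc y
    exact TopologicalSpace.Opens.mem_iSup.2 ⟨i, hi⟩
  · let a := (j i).isoOpensRange
    have ha : a.inv ≫ j i = (j i).opensRange.ι := (j i).isoOpensRange_inv_comp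
    refine GrothLib.ParaPair.isInvertible_of_iso ((Scheme.Modules.restrictFunctorIsoPullback _).app _ ≪≫
      (Scheme.Modules.pullbackCongr ha.symm).app _ ≪≫ ((Scheme.Modules.pullbackComp _ _).app _).symm) ?_
    exact GrothLib.Ample.isInvertible_pullback _ (GrothLib.ParaPair.isInvertible_of_iso (e i).some (hL i))

/-- Invertible modules on the pieces of a finite open disjoint decomposition glue. -/
theorem exists_invertible_glue {Y : Scheme.{u}} {ι : Type u} [Finite ι] {Z : ι → Scheme.{u}} (j : ∀ i, Z i ⟶ Y)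
    [∀ i, IsOpenImmersion (j i)] (hd : ∀ i l, i ≠ l → Disjoint (Set.range (j i)) (Set.range (j l)))
    (hc : ∀ y, ∃ i, y ∈ Set.range (j i)) (L : ∀ i, (Z i).Modules) (hL : ∀ i, PicF.IsInvertible (L i)) :
    ∃ M : Y.Modules, PicF.IsInvertible M ∧ ∀ i, Nonempty ((Scheme.Modules.pullback (j i)).obj M ≅ L i) := by
  obtain ⟨n, ⟨σ⟩⟩ := Finite.exists_equiv_fin ι
  obtain ⟨M, hM, he⟩ := exists_invertible_glue_fintype (fun m => j (σ.symm m))
    (fun a b hab => hd _ _ fun h => hab (σ.symm.injective h))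
    (fun y => by obtain ⟨i, hi⟩ := hc y; exact ⟨σ i, by rw [σ.symm_apply_apply]; exact hi⟩)
    (fun m => L (σ.symm m)) fun m => hL _
  refine ⟨M, hM, fun i => ?_⟩
  obtain ⟨m, rfl⟩ := σ.symm.surjective i
  exact he m

section

variable (k : Type u) [Field k] [IsAlgClosed k]
  (X : Scheme.{u}) [X.Over (Spec (CommRingCat.of k))] [IsProper (X ↘ Spec (CommRingCat.of k))]
  {P : Over (Spec (CommRingCat.of k))}
  {φ : ∀ T : Over (Spec (CommRingCat.of k)), PicF.Cl (PicF.XT (X ↘ Spec (CommRingCat.of k)) T) → (T ⟶ P)}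
  (hP : PicRel.IsRelPic (X ↘ Spec (CommRingCat.of k)) P φ)

/-- The point of an invertible module. -/
def clPt (L : X.Modules) : PicF.Cl (PicF.XT (X ↘ Spec (CommRingCat.of k)) (Over.mk (𝟙 (Spec (CommRingCat.of k))))) :=
  PicF.pullCl (pullback.fst (X ↘ Spec (CommRingCat.of k)) (𝟙 (Spec (CommRingCat.of k)))) (PicF.cl L)

variable {k X}

theorem clPt_inv {L : X.Modules} (hL : PicF.IsInvertible L) : PicF.IsInvertibleCl (clPt k X L) :=
  RelPicBC26.isInvertibleCl_pullCl _ ⟨L, rfl, hL⟩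

include hP

theorem range_subset_of_fibreMod {T : Over (Spec (CommRingCat.of k))} {N : (PicF.XT (X ↘ Spec (CommRingCat.of k)) T).Modules}
    (hN : PicF.IsInvertible N) (t : Spec (CommRingCat.of k) ⟶ T.left) (ht : t ≫ T.hom = 𝟙 _) {L : X.Modules}
    (e : Pic13.fibreMod k X T.hom t ht N ≅ L) :
    Set.range (φ _ (clPt k X L)).left.base ⊆ Set.range (φ T (PicF.cl N)).left.base := by
  let f := X ↘ Spec (CommRingCat.of k)
  let t' : Over.mk (𝟙 (Spec (CommRingCat.of k))) ⟶ T := Over.homMk t ht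
  have h1 : pullback.fst f (𝟙 (Spec (CommRingCat.of k))) ≫ Pic13.sliceAt k X T.hom t ht = PicF.XTmap f t' := by
    refine pullback.hom_ext ?_ ?_
    · simp [Pic13.sliceAt, PicF.XTmap, f]
    · simp [Pic13.sliceAt, PicF.XTmap, f, t', pullback.condition_assoc]
  have h2 : clPt k X L = PicF.pullCl (PicF.XTmap f t') (PicF.cl N) := by
    rw [← h1, clPt, ← DualBC.pullCl_comp]
    exact congrArg (PicF.pullCl _) (Quot.sound ⟨e.symm⟩)
  rw [h2, hP.natural _ _ t' _ ⟨N, rfl, hN⟩]
  rintro _ ⟨y, rfl⟩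
  exact ⟨t y, rfl⟩

/-- A bounded family lies in a quasi-compact open. -/
theorem exists_qcOpen (Q : X.Modules → Prop) (hQ : ∀ L, Q L → PicF.IsInvertible L) (hb : Pic13.IsBounded k X Q) :
    ∃ U : P.left.Opens, IsCompact (U : Set P.left) ∧
      ∀ L, Q L → Set.range (φ _ (clPt k X L)).left.base ⊆ (U : Set P.left) := by
  obtain ⟨ι, hι, T, q, hT, M, hM, hall⟩ := GrothLib.NumTau26.exists_families Q hQ hb
  haveI := hι
  let K : Set P.left := ⋃ i, Set.range (φ (Over.mk (q i)) (PicF.cl (M i))).left.base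
  have hK : IsCompact K := by
    refine isCompact_iUnion fun i => ?_
    haveI := (hT i).2.2
    haveI : CompactSpace ↥(Over.mk (q i)).left := QuasiCompact.compactSpace_of_compactSpace (q i)
    exact isCompact_range (Scheme.Hom.continuous _)
  have hnhd : ∀ x : P.left, ∃ W : P.left.Opens, IsAffineOpen W ∧ x ∈ W := fun x => by
    obtain ⟨W, hW, hx, -⟩ := exists_isAffineOpen_mem_and_subset (U := (⊤ : P.left.Opens)) (x := x) trivial
    exact ⟨W, hW, hx⟩
  choose W hW hxW using hnhd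
  obtain ⟨s, hs⟩ := hK.elim_finite_subcover (fun x => (W x : Set P.left)) (fun x => (W x).2)
    fun x _ => Set.mem_iUnion.2 ⟨x, hxW x⟩
  refine ⟨⟨⋃ x ∈ s, (W x : Set P.left), isOpen_biUnion fun x _ => (W x).2⟩,
    s.finite_toSet.isCompact_biUnion fun x _ => (hW x).isCompact, fun L hL y hy => hs ?_⟩
  obtain ⟨i, t, ht, ⟨e⟩⟩ := hall L hL
  exact Set.mem_iUnion.2 ⟨i, range_subset_of_fibreMod hP (T := Over.mk (q i)) (hM i) t ht e hy⟩

/-- Classes with the same point over an algebraically closed field agree. -/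
theorem eq_of_φ_eq {c c' : PicF.Cl (PicF.XT (X ↘ Spec (CommRingCat.of k)) (Over.mk (𝟙 (Spec (CommRingCat.of k)))))}
    (hc : PicF.IsInvertibleCl c) (hc' : PicF.IsInvertibleCl c') (h : φ _ c = φ _ c') : c = c' := by
  let pt := Over.mk (𝟙 (Spec (CommRingCat.of k)))
  obtain ⟨ι, U, hU, he⟩ := hP.locallyInjective pt c c' hc hc' h
  obtain ⟨i, y, -⟩ := hU (IsLocalRing.closedPoint k)
  haveI : Etale (U i).hom := (U i).prop
  obtain ⟨s, hs⟩ := GrothLib.ProEtS.exists_section_of_isSepClosed (k := k) (U i).hom y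
  let σ : pt ⟶ PicRel.ovr pt (U i) := Over.homMk s (by
    show s ≫ (U i).hom ≫ 𝟙 _ = 𝟙 _
    rw [Category.comp_id]; exact hs)
  have hσ : σ ≫ PicRel.ovrHom pt (U i) = 𝟙 pt := Over.OverMorphism.ext hs
  have := congrArg (PicF.pullCl (PicF.XTmap (X ↘ Spec (CommRingCat.of k)) σ)) (he i)
  rwa [RelPicBC26.pullCl_XTmap_comp, RelPicBC26.pullCl_XTmap_comp, hσ, PicTan26.XTmap_id, DualBC.pullCl_id,
    DualBC.pullCl_id] at this

/-- A quasi-compact open gives a bounded family. -/
theorem isBounded_of_qcOpen (Q : X.Modules → Prop) (hQ : ∀ L, Q L → PicF.IsInvertible L)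
    (U : P.left.Opens) (hU : IsCompact (U : Set P.left))
    (hQU : ∀ L, Q L → Set.range (φ _ (clPt k X L)).left.base ⊆ (U : Set P.left)) :
    Pic13.IsBounded k X Q := by
  let f := X ↘ Spec (CommRingCat.of k)
  let T₀ : Over (Spec (CommRingCat.of k)) := Over.mk (U.ι ≫ P.hom)
  let g₀ : T₀ ⟶ P := Over.homMk U.ι
  haveI : LocallyOfFiniteType P.hom := locallyOfFiniteType f hP
  haveI : CompactSpace T₀.left := isCompact_iff_compactSpace.1 hU
  obtain ⟨ι, V, hV, hc⟩ := hP.locallySurjective T₀ g₀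
  choose c hcinv hφc using hc
  obtain ⟨κ, hκ, Z, hZ, v, hv, r, e, hev, hsurj⟩ := exists_affine_refinement T₀ V hV
  haveI := hκ
  have hN : ∀ a, ∃ N : (PicF.XT f (Z a)).Modules,
      PicF.cl N = PicF.pullCl (PicF.XTmap f (e a)) (c (r a)) ∧ PicF.IsInvertible N :=
    fun a => RelPicBC26.isInvertibleCl_pullCl _ (hcinv (r a))
  choose N hNc hNinv using hN
  let T := ∐ fun a => (Z a).left
  let q : T ⟶ Spec (CommRingCat.of k) := Sigma.desc fun a => (Z a).hom
  let u : ∀ a, Z a ⟶ Over.mk q := fun a => Over.homMk (Sigma.ι (fun a => (Z a).left) a)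
    (Sigma.ι_desc (fun a => (Z a).hom) a)
  haveI hZlft : ∀ a, LocallyOfFiniteType (Z a).hom := fun a => by
    haveI := hv a
    rw [← Over.w (v a)]
    exact inferInstanceAs (LocallyOfFiniteType ((v a).left ≫ U.ι ≫ P.hom))
  haveI : LocallyOfFiniteType q := IsZariskiLocalAtSource.sigmaDesc (P := @LocallyOfFiniteType) hZlft
  haveI : ∀ a, CompactSpace ↥(Z a).left := fun a =>
    isCompact_univ_iff.mp (isAffineOpen_top (Z a).left).isCompact
  haveI : CompactSpace ↥T := inferInstance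
  haveI : QuasiCompact q := (quasiCompact_iff_compactSpace q).2 inferInstance
  haveI : ∀ a, IsOpenImmersion (u a).left := fun a => inferInstanceAs (IsOpenImmersion (Sigma.ι (fun a => (Z a).left) a))
  have hpb : ∀ a, IsPullback (PicF.XTmap f (u a)) (pullback.snd f (Z a).hom) (pullback.snd f q) (u a).left :=
    fun a => GrothLib.PicSep26.isPullback_XTmap f (u a)
  haveI : ∀ a, IsOpenImmersion (PicF.XTmap f (u a)) := fun a =>
    MorphismProperty.of_isPullback (P := @IsOpenImmersion) (hpb a).flip inferInstance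
  obtain ⟨F, hF, hFi⟩ := exists_invertible_glue (fun a => PicF.XTmap f (u a)) (fun a b hab => by
      refine Set.disjoint_left.2 ?_
      rintro y ⟨z, rfl⟩ ⟨w, hw⟩
      have h1 := congrArg (pullback.snd f q) hw
      replace h1 : ((PicF.XTmap f (u b)) ≫ pullback.snd f q) w = ((PicF.XTmap f (u a)) ≫ pullback.snd f q) z := h1
      rw [(hpb a).w, (hpb b).w, Scheme.Hom.comp_apply, Scheme.Hom.comp_apply] at h1
      exact (disjoint_opensRange_sigmaι (fun a => (Z a).left) b a (Ne.symm hab)).le_bot ⟨⟨_, rfl⟩, ⟨_, h1.symm⟩⟩)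
    (fun y => by
      obtain ⟨a, z, hz⟩ : ∃ a, ∃ z, Sigma.ι (fun a => (Z a).left) a z = pullback.snd f q y := by
        obtain ⟨⟨a, z⟩, h⟩ := (sigmaMk (fun a => (Z a).left)).surjective (pullback.snd f q y)
        exact ⟨a, z, by rw [← h, sigmaMk_mk]⟩
      obtain ⟨w, hw, -⟩ := Scheme.exists_preimage_of_isPullback (hpb a) y z hz.symm
      exact ⟨a, w, hw⟩)
    N hNinv
  haveI : IsProper (pullback.snd f q) := MorphismProperty.pullback_snd (P := @IsProper) f q inferInstance
  haveI : IsLocallyNoetherian T := LocallyOfFiniteType.isLocallyNoetherian q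
  haveI : IsLocallyNoetherian (Pic13.prodK k X q) := LocallyOfFiniteType.isLocallyNoetherian (pullback.snd f q)
  refine ⟨T, q, inferInstance, inferInstance, F, GrothLib.Euler.isCoh_of_isInvertible hF, fun L hL => ?_⟩
  let pt := Over.mk (𝟙 (Spec (CommRingCat.of k)))
  let p : pt ⟶ P := φ pt (clPt k X L)
  let s := IsOpenImmersion.lift U.ι p.left (by rw [Scheme.Opens.range_ι]; exact hQU L hL)
  have hs : s ≫ U.ι = p.left := IsOpenImmersion.lift_fac _ _ _
  obtain ⟨a, y, hy⟩ := hsurj (s (IsLocalRing.closedPoint k))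
  haveI := hv a
  obtain ⟨w, -, -⟩ := Scheme.Pullback.exists_preimage_pullback (f := (v a).left) (g := s) y
    (IsLocalRing.closedPoint k) hy
  haveI : Etale (pullback.snd (v a).left s) := MorphismProperty.pullback_snd _ _ inferInstance
  obtain ⟨σ, hσ⟩ := GrothLib.ProEtS.exists_section_of_isSepClosed (k := k) (pullback.snd (v a).left s) w
  let z := σ ≫ pullback.fst (v a).left s
  have hz : z ≫ (v a).left = s := by
    show (σ ≫ pullback.fst _ _) ≫ _ = _
    rw [Category.assoc, pullback.condition, reassoc_of% hσ]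
  have hzk : z ≫ (Z a).hom = 𝟙 _ := by
    rw [← Over.w (v a)]
    show z ≫ (v a).left ≫ U.ι ≫ P.hom = _
    rw [reassoc_of% hz, reassoc_of% hs]
    exact Over.w p
  let z' : pt ⟶ Z a := Over.homMk z hzk
  have hzp : z' ≫ v a ≫ g₀ = p := Over.OverMorphism.ext (by
    show z ≫ (v a).left ≫ U.ι = p.left
    rw [reassoc_of% hz, hs])
  have hclass : PicF.pullCl (PicF.XTmap f z') (PicF.cl (N a)) = clPt k X L := by
    refine eq_of_φ_eq hP (RelPicBC26.isInvertibleCl_pullCl _ ⟨_, rfl, hNinv a⟩) (clPt_inv (hQ L hL)) ?_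
    rw [hP.natural _ _ z' _ ⟨_, rfl, hNinv a⟩, hNc, hP.natural _ _ (e a) _ (hcinv (r a)), hφc,
      ← Category.assoc (e a), hev]
    exact hzp
  refine ⟨z ≫ (u a).left, (Category.assoc _ _ _).trans ((congrArg (z ≫ ·) (Over.w (u a))).trans hzk), ?_⟩
  let ι₀ : X ⟶ PicF.XT f pt := pullback.lift (𝟙 X) f (by rw [Category.id_comp]; exact (Category.comp_id f).symm)
  have h1 : ι₀ ≫ PicF.XTmap f z' ≫ PicF.XTmap f (u a) =
      Pic13.sliceAt k X q (z ≫ (u a).left) ((Category.assoc _ _ _).trans ((congrArg (z ≫ ·) (Over.w (u a))).trans hzk)) := by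
    refine pullback.hom_ext ?_ ?_ <;> simp [Pic13.sliceAt, PicF.XTmap, ι₀, z', f]
  refine GrothLib.PicSep26.cl_eq_iff.1 ?_
  have h2 : PicF.pullCl (PicF.XTmap f (u a)) (PicF.cl F) = PicF.cl (N a) := Quot.sound (hFi a)
  show PicF.pullCl (Pic13.sliceAt k X q (z ≫ (u a).left) _) (PicF.cl F) = PicF.cl L
  rw [← h1, ← DualBC.pullCl_comp, ← DualBC.pullCl_comp, h2, hclass, clPt, DualBC.pullCl_comp]
  exact (congrArg (fun m => PicF.pullCl m (PicF.cl L))
    (show ι₀ ≫ pullback.fst f (𝟙 (Spec (CommRingCat.of k))) = 𝟙 X from pullback.lift_fst _ _ _)).trans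
    (DualBC.pullCl_id _)

end

end GrothLib.PicLim26
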